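/-
Coproducts in pretriangulated categories: shifts, distinguished coproduct triangles.
-/
import Mathlib.CategoryTheory.Triangulated.Pretriangulated
import Mathlib.CategoryTheory.Limits.Preserves.Shapes.Products
import Mathlib.CategoryTheory.Adjunction.Limits

universe w v u

open CategoryTheory CategoryTheory.Limits Pretriangulated

namespace Groth.Agent.DHA.Brown

variable {D : Type u} [Category.{v} D] [HasShift D ℤ]

/-- The shift of a coproduct is a coproduct of the shifts. -/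
noncomputable def isColimitShift {J : Type w} (X : J → D) [HasCoproduct X] (n : ℤ) :
    IsColimit (Cofan.mk ((shiftFunctor D n).obj (∐ X))
      (fun j => (shiftFunctor D n).map (Sigma.ι X j))) :=
  isColimitCofanMkObjOfIsColimit (shiftFunctor D n) _ _ (coproductIsCoproduct X)

lemma shift_desc {J : Type w} (X : J → D) [HasCoproduct X] (n : ℤ) {W : D}
    (g : ∀ j, (X j)⟦n⟧ ⟶ W) :
    ∃ k : (∐ X)⟦n⟧ ⟶ W, ∀ j, (shiftFunctor D n).map (Sigma.ι X j) ≫ k = g j :=
  ⟨Cofan.IsColimit.desc (isColimitShift X n) g,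
    fun j => Cofan.IsColimit.fac (isColimitShift X n) g j⟩

lemma shift_hom_ext {J : Type w} (X : J → D) [HasCoproduct X] (n : ℤ) {W : D}
    {k k' : (∐ X)⟦n⟧ ⟶ W}
    (h : ∀ j, (shiftFunctor D n).map (Sigma.ι X j) ≫ k =
      (shiftFunctor D n).map (Sigma.ι X j) ≫ k') : k = k' :=
  Cofan.IsColimit.hom_ext (isColimitShift X n) _ _ h

variable [Preadditive D] [HasZeroObject D] [∀ n : ℤ, (shiftFunctor D n).Additive]
  [Pretriangulated D]

/-- A coproduct of distinguished triangles is distinguished. -/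
theorem coproductTriangle_distinguished {J : Type w} (T : J → Triangle D)
    (hT : ∀ j, T j ∈ distTriang D)
    [HasCoproduct (fun j => (T j).obj₁)] [HasCoproduct (fun j => (T j).obj₂)]
    [HasCoproduct (fun j => (T j).obj₃)] :
    Triangle.mk (Limits.Sigma.map (fun j => (T j).mor₁)) (Limits.Sigma.map (fun j => (T j).mor₂))
      (Sigma.desc (fun j => (T j).mor₃ ≫
        (shiftFunctor D (1 : ℤ)).map (Sigma.ι (fun j => (T j).obj₁) j))) ∈ distTriang D := by
  set A := fun j => (T j).obj₁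
  set B := fun j => (T j).obj₂
  set C := fun j => (T j).obj₃
  set F₁ : ∐ A ⟶ ∐ B := Limits.Sigma.map (fun j => (T j).mor₁) with hF₁
  obtain ⟨Z, f₂, f₃, hT'⟩ := distinguished_cocone_triangle F₁
  have hφ : ∀ j, ∃ p : C j ⟶ Z, (T j).mor₂ ≫ p = Sigma.ι B j ≫ f₂ ∧
      (T j).mor₃ ≫ (shiftFunctor D (1 : ℤ)).map (Sigma.ι A j) = p ≫ f₃ := fun j =>
    complete_distinguished_triangle_morphism _ _ (hT j) hT' (Sigma.ι A j) (Sigma.ι B j)
      (by exact (Sigma.ι_map (fun j => (T j).mor₁) j).symm)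
  choose p hp₂ hp₃ using hφ
  set c : ∐ C ⟶ Z := Sigma.desc p with hc
  have hc₂ : Limits.Sigma.map (fun j => (T j).mor₂) ≫ c = f₂ :=
    Sigma.hom_ext _ _ fun j => by simp [hc, B, C, ← hp₂]
  have hc₃ : Sigma.desc (fun j => (T j).mor₃ ≫
      (shiftFunctor D (1 : ℤ)).map (Sigma.ι A j)) = c ≫ f₃ :=
    Sigma.hom_ext _ _ fun j => by simp [hc, C, hp₃]
  have hiso : IsIso c := by
    rw [isIso_iff_coyoneda_map_bijective]
    intro W
    constructor
    · intro g g' hgg
      rw [← sub_eq_zero]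
      set d := g - g' with hd
      have hd₀ : c ≫ d = 0 := by
        simp only [hd, Preadditive.comp_sub, sub_eq_zero]
        exact hgg
      obtain ⟨k, hk⟩ : ∃ k : (∐ A)⟦(1 : ℤ)⟧ ⟶ W, d = f₃ ≫ k := Triangle.yoneda_exact₃ _ hT' d
        (by show f₂ ≫ d = 0; rw [← hc₂, Category.assoc, hd₀, comp_zero])
      have hl : ∀ j, ∃ l : (B j)⟦(1 : ℤ)⟧ ⟶ W,
          (shiftFunctor D (1 : ℤ)).map (Sigma.ι A j) ≫ k =
            (shiftFunctor D (1 : ℤ)).map (T j).mor₁ ≫ l := fun j => by
        obtain ⟨l, hl⟩ : ∃ l : (B j)⟦(1 : ℤ)⟧ ⟶ W,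
            (shiftFunctor D (1 : ℤ)).map (Sigma.ι A j) ≫ k =
              (-(shiftFunctor D (1 : ℤ)).map (T j).mor₁) ≫ l :=
          Triangle.yoneda_exact₃ _ (rot_of_distTriang _ (hT j))
          ((shiftFunctor D (1 : ℤ)).map (Sigma.ι A j) ≫ k) (by
            show (T j).mor₃ ≫ (shiftFunctor D (1 : ℤ)).map (Sigma.ι A j) ≫ k = 0
            rw [← Category.assoc, hp₃, Category.assoc, ← hk]
            have := Sigma.ι C j ≫= hd₀
            rw [comp_zero, hc, Sigma.ι_desc_assoc] at this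
            exact this)
        exact ⟨-l, by rw [hl]; simp⟩
      choose l hl using hl
      obtain ⟨L, hL⟩ := shift_desc B 1 l
      have : k = (shiftFunctor D (1 : ℤ)).map F₁ ≫ L := shift_hom_ext A 1 fun j => by
        rw [← Category.assoc, ← Functor.map_comp, hF₁, Sigma.ι_map, Functor.map_comp,
          Category.assoc, hL, hl]
      rw [hk, this]
      have h0 := comp_distTriang_mor_zero₃₁ _ hT'
      change f₃ ≫ (shiftFunctor D (1 : ℤ)).map F₁ = 0 at h0
      rw [← Category.assoc, h0, zero_comp]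
    · intro h
      obtain ⟨g₀, hg₀⟩ : ∃ g₀ : Z ⟶ W,
          Limits.Sigma.map (fun j => (T j).mor₂) ≫ h = f₂ ≫ g₀ := Triangle.yoneda_exact₂ _ hT'
        (Limits.Sigma.map (fun j => (T j).mor₂) ≫ h) (by
          show F₁ ≫ Limits.Sigma.map (fun j => (T j).mor₂) ≫ h = 0
          refine Sigma.hom_ext _ _ fun j => ?_
          simp [hF₁, A, B, reassoc_of% (comp_distTriang_mor_zero₁₂ _ (hT j))])
      have hk : ∀ j, ∃ k : (A j)⟦(1 : ℤ)⟧ ⟶ W,
          Sigma.ι C j ≫ (h - c ≫ g₀) = (T j).mor₃ ≫ k := fun j =>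
        Triangle.yoneda_exact₃ _ (hT j) _ (by
          have e₁ := Sigma.ι B j ≫= hg₀
          rw [← hc₂] at e₁
          simpa [B, C, sub_eq_zero, Preadditive.comp_sub] using e₁)
      choose k hk using hk
      obtain ⟨K, hK⟩ := shift_desc A 1 k
      refine ⟨g₀ + f₃ ≫ K, ?_⟩
      show c ≫ (g₀ + f₃ ≫ K) = h
      rw [Preadditive.comp_add, ← Category.assoc, ← hc₃, ← eq_sub_iff_add_eq']
      refine Sigma.hom_ext _ _ fun j => ?_
      rw [hk, Sigma.ι_desc_assoc, Category.assoc, hK]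
  exact isomorphic_distinguished _ hT' _
    (Triangle.isoMk _ _ (Iso.refl _) (Iso.refl _) (@asIso _ _ _ _ c hiso)
      ((Category.comp_id _).trans (Category.id_comp _).symm)
      (hc₂.trans (Category.id_comp _).symm)
      ((congrArg _ (CategoryTheory.Functor.map_id _ _)).trans ((Category.comp_id _).trans hc₃)))

end Groth.Agent.DHA.Brown
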