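/-
Maps from compact objects into cellular towers factor through finite triangulated envelopes.
-/
import Groth.Prelude.Def_CohDer
import Groth.Agent.DHA.Brown.Coprod
import Groth.Agent.DHA.Compact
import Mathlib.CategoryTheory.Triangulated.Generators

set_option linter.unusedSectionVars false

universe v u

open CategoryTheory CategoryTheory.Limits Pretriangulated

namespace Groth.Agent.DHA.Brown

variable {D : Type u} [Category.{v} D] [Preadditive D] [HasZeroObject D] [HasShift D ℤ]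
  [∀ n : ℤ, (shiftFunctor D n).Additive] [Pretriangulated D] [IsTriangulated D]

variable {ι : Type v} (E : ι → D)

/-- triangulated envelope of a finite subfamily -/
noncomputable abbrev env (s : Finset ι) : ObjectProperty D :=
  ObjectProperty.triangEnvelope (fun Y : D => ∃ i ∈ s, Y = E i)

lemma env_mono {s t : Finset ι} (h : s ⊆ t) : env E s ≤ env E t :=
  ObjectProperty.monotone_triangEnvelope fun _ ⟨i, hi, hY⟩ => ⟨i, h hi, hY⟩

lemma env_isTriangulated {s : Finset ι} {i : ι} (hi : i ∈ s) : (env E s).IsTriangulated :=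
  have : ObjectProperty.Nonempty (fun Y : D => ∃ i ∈ s, Y = E i) := ⟨E i, i, hi, rfl⟩
  inferInstance

variable {E}

lemma env_compact [HasCoproducts.{v} D] (hc : ∀ i, CohDer.IsCompactObject (E i)) (s : Finset ι) :
    env E s ≤ fun K : D => CohDer.IsCompactObject K := by
  have := Compact.isTriangulated (D := D)
  have : ObjectProperty.IsStableUnderRetracts (fun K : D => CohDer.IsCompactObject K) :=
    ⟨fun r h => Compact.retract r h⟩
  rw [env, ObjectProperty.triangEnvelope_le_iff]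
  rintro _ ⟨i, -, rfl⟩
  exact hc i

variable (E) in
/-- a map factors through a finite envelope -/
def Fac {A B : D} (φ : A ⟶ B) : Prop :=
  ∃ (s : Finset ι) (E' : D) (g : A ⟶ E') (h : E' ⟶ B), env E s E' ∧ g ≫ h = φ

lemma Fac.comp {A B B' : D} {φ : A ⟶ B} (hφ : Fac E φ) (ψ : B ⟶ B') : Fac E (φ ≫ ψ) := by
  obtain ⟨s, E', g, h, hE', rfl⟩ := hφ
  exact ⟨s, E', g, h ≫ ψ, hE', (Category.assoc _ _ _).symm⟩

variable [Nonempty ι]

lemma Fac.zero (A B : D) : Fac E (0 : A ⟶ B) := by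
  classical
  obtain ⟨i⟩ := ‹Nonempty ι›
  exact ⟨{i}, E i, 0, 0, ObjectProperty.le_triangEnvelope _ _ ⟨i, by simp, rfl⟩, by simp⟩

lemma Fac.add {A B : D} {φ ψ : A ⟶ B} (hφ : Fac E φ) (hψ : Fac E ψ) : Fac E (φ + ψ) := by
  classical
  obtain ⟨s, E₁, g₁, h₁, hE₁, rfl⟩ := hφ
  obtain ⟨t, E₂, g₂, h₂, hE₂, rfl⟩ := hψ
  obtain ⟨i⟩ := ‹Nonempty ι›
  let u := insert i (s ∪ t)
  have := env_isTriangulated E (s := u) (i := i) (Finset.mem_insert_self _ _)
  refine ⟨u, E₁ ⊞ E₂, biprod.lift g₁ g₂, biprod.desc h₁ h₂,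
    (env E u).ext_of_isTriangulatedClosed₂ _ (binaryBiproductTriangle_distinguished E₁ E₂)
      (env_mono E (fun x hx => Finset.mem_insert_of_mem (Finset.mem_union_left _ hx)) _ hE₁)
      (env_mono E (fun x hx => Finset.mem_insert_of_mem (Finset.mem_union_right _ hx)) _ hE₂), ?_⟩
  simp

variable [HasCoproducts.{v} D]

lemma fac_of_coproduct {C : D} (hC : CohDer.IsCompactObject C) {κ : Type v} (X : κ → D)
    (hX : ∀ k, ∃ s, env E s (X k)) (φ : C ⟶ ∐ X) : Fac E φ := by
  classical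
  obtain ⟨x, rfl⟩ := (hC κ X).2 φ
  induction x using DirectSum.induction_on with
  | zero => rw [map_zero]; exact Fac.zero _ _
  | of k f =>
    rw [Compact.hom_of]
    obtain ⟨s, hs⟩ := hX k
    exact ⟨s, X k, f, Sigma.ι X k, hs, rfl⟩
  | add x y hx hy => rw [map_add]; exact hx.add hy

/-- a map out of a compact object into a cellular tower factors through a finite envelope -/
theorem fac_tower (hc : ∀ i, CohDer.IsCompactObject (E i))
    (K : ℕ → D) (f : ∀ n, K n ⟶ K (n + 1))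
    (h0 : ∃ (κ : Type v) (a : κ → ι) (m : κ → ℤ),
      Nonempty (K 0 ≅ ∐ (fun k => (shiftFunctor D (m k)).obj (E (a k)))))
    (hstep : ∀ n, ∃ (κ : Type v) (a : κ → ι) (m : κ → ℤ)
      (y : (∐ fun k => (shiftFunctor D (m k)).obj (E (a k))) ⟶ K n)
      (z : K (n + 1) ⟶ (shiftFunctor D (1 : ℤ)).obj
        (∐ fun k => (shiftFunctor D (m k)).obj (E (a k)))),
      Triangle.mk y (f n) z ∈ distTriang D) (n : ℕ) :
    ∀ (C : D), CohDer.IsCompactObject C → ∀ φ : C ⟶ K n, Fac E φ := by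
  classical
  have hmem : ∀ (i : ι) (m : ℤ), env E {i} ((E i)⟦m⟧) := fun i m =>
    (env E {i}).le_shift m _ (ObjectProperty.le_triangEnvelope _ _ ⟨i, by simp, rfl⟩)
  induction n with
  | zero =>
    intro C hC φ
    obtain ⟨κ, a, m, ⟨e⟩⟩ := h0
    have := (fac_of_coproduct hC _ (fun k => ⟨_, hmem (a k) (m k)⟩) (φ ≫ e.hom)).comp e.inv
    simpa using this
  | succ n ih =>
    intro C hC φ
    obtain ⟨κ, a, m, y, z, hT⟩ := hstep n
    let X := fun k => (shiftFunctor D (m k)).obj (E (a k))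
    let X₁ := fun k => (X k)⟦(1 : ℤ)⟧
    let back : ∐ X₁ ⟶ (∐ X)⟦(1 : ℤ)⟧ :=
      Sigma.desc fun k => (shiftFunctor D (1 : ℤ)).map (Sigma.ι X k)
    obtain ⟨d, hd⟩ := shift_desc X 1 (Sigma.ι X₁)
    have hdb : d ≫ back = 𝟙 _ := shift_hom_ext X 1 fun k => by
      rw [reassoc_of% hd k, Sigma.ι_desc, Category.comp_id]
    have hX₁ : ∀ k, ∃ s, env E s (X₁ k) := fun k =>
      ⟨_, (env E {a k}).le_shift 1 _ (hmem (a k) (m k))⟩
    obtain ⟨s, Q, c, q, hQ, hcq⟩ := (fac_of_coproduct hC X₁ hX₁ ((φ ≫ z) ≫ d)).comp back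
    rw [Category.assoc _ d, hdb, Category.comp_id] at hcq
    obtain ⟨C', u, δ, hC'⟩ := distinguished_cocone_triangle₁ c
    have hcomp : CohDer.IsCompactObject C' := by
      have := Compact.isTriangulated (D := D)
      have : ObjectProperty.IsStableUnderRetracts (fun K : D => CohDer.IsCompactObject K) :=
        ⟨fun r h => Compact.retract r h⟩
      exact ObjectProperty.ext_of_isTriangulatedClosed₁
        (fun K : D => CohDer.IsCompactObject K) _ hC' hC (env_compact hc s _ hQ)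
    have huc : u ≫ c = 0 := comp_distTriang_mor_zero₁₂ _ hC'
    obtain ⟨ψ, hψ⟩ : ∃ ψ : C' ⟶ K n, u ≫ φ = ψ ≫ f n :=
      Triangle.coyoneda_exact₃ _ hT (u ≫ φ) (by
        show (u ≫ φ) ≫ z = 0
        rw [Category.assoc, ← hcq, reassoc_of% huc, zero_comp])
    obtain ⟨t, E'', g, h, hE'', hgh⟩ := ih C' hcomp ψ
    let v : C' ⟶ E'' ⊞ C := biprod.lift (-g) u
    have hv : v ≫ biprod.snd = u := biprod.lift_snd _ _
    obtain ⟨D', j, w, hD'⟩ := distinguished_cocone_triangle v
    have hsnd := rot_of_distTriang _ (binaryBiproductTriangle_distinguished E'' C)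
    let o := Triangulated.someOctahedron hv hD' hsnd hC'
    obtain ⟨i₀⟩ := ‹Nonempty ι›
    let S := insert i₀ (s ∪ t)
    have := env_isTriangulated E (s := S) (i := i₀) (Finset.mem_insert_self _ _)
    have hD'mem : env E S D' :=
      (env E S).ext_of_isTriangulatedClosed₁ _ o.mem
        (env_mono E (fun x hx => Finset.mem_insert_of_mem (Finset.mem_union_left _ hx)) _ hQ)
        ((env E S).le_shift 1 _
          (env_mono E (fun x hx => Finset.mem_insert_of_mem (Finset.mem_union_right _ hx)) _ hE''))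
    obtain ⟨h', hh'⟩ : ∃ h' : D' ⟶ K (n + 1), biprod.desc (h ≫ f n) φ = j ≫ h' :=
      Triangle.yoneda_exact₂ _ hD' (biprod.desc (h ≫ f n) φ) (by
        show v ≫ biprod.desc (h ≫ f n) φ = 0
        rw [biprod.lift_desc, hψ, ← hgh]
        simp)
    refine ⟨S, D', biprod.inr ≫ j, h', hD'mem, ?_⟩
    rw [Category.assoc, ← hh', biprod.inr_desc]

end Groth.Agent.DHA.Brown
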