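/-
Brown representability: elements of cohomological functors, perfect families.
-/
import Groth.Prelude.Def_CohDer
import Groth.Agent.DHA.Brown.Coprod
import Groth.Agent.DHA.Compact
import Mathlib.CategoryTheory.Triangulated.HomologicalFunctor
import Mathlib.CategoryTheory.Triangulated.Opposite.Pretriangulated
import Mathlib.CategoryTheory.Limits.Shapes.Opposites.Products
import Mathlib.Algebra.Category.Grp.Limits
import Mathlib.Algebra.Category.Grp.Abelian
import Mathlib.Algebra.Homology.ShortComplex.Ab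

set_option linter.unusedSectionVars false

universe w v u

open CategoryTheory CategoryTheory.Limits Pretriangulated Opposite
open CategoryTheory.Pretriangulated.Opposite

namespace Groth.Agent.DHA.Brown

variable {D : Type u} [Category.{v} D] [Preadditive D] [HasZeroObject D] [HasShift D ℤ]
  [∀ n : ℤ, (shiftFunctor D n).Additive] [Pretriangulated D]

section Elements

variable (H : Dᵒᵖ ⥤ AddCommGrpCat.{v})

/-- pullback of an element along a map -/
noncomputable def ev {A B : D} (φ : A ⟶ B) (x : H.obj (op B)) : H.obj (op A) := H.map φ.op x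

lemma ev_comp {A B C : D} (φ : A ⟶ B) (ψ : B ⟶ C) (x : H.obj (op C)) :
    ev H (φ ≫ ψ) x = ev H φ (ev H ψ x) := by
  simp [ev]

@[simp]
lemma ev_id {A : D} (x : H.obj (op A)) : ev H (𝟙 A) x = x := by simp [ev]

@[simp]
lemma ev_map_zero {A B : D} (φ : A ⟶ B) : ev H φ 0 = 0 := map_zero _

lemma ev_map_add {A B : D} (φ : A ⟶ B) (x y : H.obj (op B)) :
    ev H φ (x + y) = ev H φ x + ev H φ y := map_add _ x y

lemma ev_map_sub {A B : D} (φ : A ⟶ B) (x y : H.obj (op B)) :
    ev H φ (x - y) = ev H φ x - ev H φ y := map_sub _ x y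

variable [H.IsHomological]

lemma ev_add {A B : D} (φ ψ : A ⟶ B) (x : H.obj (op B)) :
    ev H (φ + ψ) x = ev H φ x + ev H ψ x := by
  simp [ev, H.map_add]

lemma ev_sub {A B : D} (φ ψ : A ⟶ B) (x : H.obj (op B)) :
    ev H (φ - ψ) x = ev H φ x - ev H ψ x := by
  have := ev_add H (φ - ψ) ψ x
  rw [sub_add_cancel] at this
  rw [this, add_sub_cancel_right]

lemma ev_zero {A B : D} (x : H.obj (op B)) : ev H (0 : A ⟶ B) x = 0 := by
  simpa using ev_sub H (0 : A ⟶ B) 0 x

lemma ev_neg {A B : D} (φ : A ⟶ B) (x : H.obj (op B)) : ev H (-φ) x = - ev H φ x := by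
  simpa [ev_zero] using ev_sub H 0 φ x

/-- exactness of a cohomological functor -/
lemma exists_ev {A B C : D} {f : A ⟶ B} {g : B ⟶ C} {h : C ⟶ A⟦(1 : ℤ)⟧}
    (hT : Triangle.mk f g h ∈ distTriang D) (x : H.obj (op B)) (hx : ev H f x = 0) :
    ∃ z, ev H g z = x :=
  (ShortComplex.ab_exact_iff _).1
    (H.map_distinguished_exact _ (op_distinguished _ hT)) x hx

lemma ev_hom_ext {J : Type w} {X : J → D} [HasCoproduct X]
    [PreservesLimitsOfShape (Discrete J) H] {u v : H.obj (op (∐ X))}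
    (h : ∀ j, ev H (Sigma.ι X j) u = ev H (Sigma.ι X j) v) : u = v :=
  Concrete.isLimit_ext _ (isLimitOfPreserves H (Cofan.IsColimit.op (coproductIsCoproduct X))) u v
    (fun j => h j.as)

lemma exists_ev_desc {J : Type w} {X : J → D} [HasCoproduct X]
    [PreservesLimitsOfShape (Discrete J) H] (x : ∀ j, H.obj (op (X j))) :
    ∃ u, ∀ j, ev H (Sigma.ι X j) u = x j := by
  let hl := isLimitOfPreserves (H ⋙ forget AddCommGrpCat.{v})
    (Cofan.IsColimit.op (coproductIsCoproduct X))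
  refine ⟨hl.lift ⟨PUnit.{v + 1}, Discrete.natTrans fun j => TypeCat.ofHom fun _ => x j.as⟩
    PUnit.unit, fun j => ?_⟩
  exact congrArg (fun t => t PUnit.unit)
    (hl.fac ⟨PUnit.{v + 1}, Discrete.natTrans fun j => TypeCat.ofHom fun _ => x j.as⟩ ⟨j⟩)

end Elements

/-- A perfect family of objects, closed under shifts, detecting zero objects. -/
structure IsPerfect [HasColimitsOfShape (Discrete ℕ) D] {κ : Type v} (P : κ → D) : Prop where
  detect : ∀ X : D, (∀ (k : κ) (f : P k ⟶ X), f = 0) → IsZero X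
  shift : ∀ (k : κ) (n : ℤ), ∃ k', Nonempty (P k' ≅ (P k)⟦n⟧)
  factor : ∀ (X : ℕ → D) (k : κ) (α : P k ⟶ ∐ X), ∃ (j : ℕ → κ) (β : ∀ n, P (j n) ⟶ X n)
    (γ : P k ⟶ ∐ (fun n => P (j n))), α = γ ≫ Limits.Sigma.map β

variable [HasColimitsOfShape (Discrete ℕ) D]

/-- all the shifts of a family -/
noncomputable abbrev shifts {ι : Type v} (E : ι → D) (k : ι × ℤ) : D := (E k.1)⟦k.2⟧

theorem isPerfect_shifts {ι : Type v} (E : ι → D)
    (h1 : ∀ X : D, (∀ (i : ι) (n : ℤ) (f : E i ⟶ X⟦n⟧), f = 0) → IsZero X)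
    (h2 : ∀ (X : ℕ → D) (i : ι) (α : E i ⟶ ∐ X), ∃ (j : ℕ → ι) (β : ∀ n, E (j n) ⟶ X n)
      (γ : E i ⟶ ∐ (fun n => E (j n))), α = γ ≫ Limits.Sigma.map β) :
    IsPerfect (shifts E) where
  detect X hX := h1 X fun i n f => by
    let adj : shiftFunctor D (-n) ⊣ shiftFunctor D (-(-n)) := (shiftEquiv D (-n)).toAdjunction
    let e : X⟦n⟧ ≅ X⟦-(-n)⟧ := eqToIso (by rw [neg_neg])
    have := hX (i, -n) ((adj.homEquiv _ _).symm (f ≫ e.hom))
    have h0 : f ≫ e.hom = 0 := by
      have := congrArg (adj.homEquiv (E i) X) this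
      rw [Equiv.apply_symm_apply, Adjunction.homEquiv_unit] at this
      exact this.trans ((congrArg _ ((shiftFunctor D (-(-n))).map_zero _ _)).trans comp_zero)
    rwa [← cancel_mono e.hom, zero_comp]
  shift k n := ⟨(k.1, k.2 + n), ⟨(shiftFunctorAdd' D k.2 n _ rfl).app _⟩⟩
  factor X := fun ⟨i, n⟩ α => by
    let e := shiftFunctor D (-n)
    let adj : shiftFunctor D n ⊣ e := (shiftEquiv D n).toAdjunction
    let c := isColimitCofanMkObjOfIsColimit e _ _ (coproductIsCoproduct X)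
    let φ : e.obj (∐ X) ⟶ ∐ (fun m => e.obj (X m)) :=
      Cofan.IsColimit.desc c (Sigma.ι (fun m => e.obj (X m)))
    obtain ⟨j, β, γ, hγ⟩ := h2 (fun m => e.obj (X m)) i ((adj.homEquiv _ _) α ≫ φ)
    let β' : ∀ m, shifts E (j m, n) ⟶ X m := fun m => (adj.homEquiv _ _).symm (β m)
    let ψ : ∐ (fun m => E (j m)) ⟶ e.obj (∐ fun m => shifts E (j m, n)) :=
      Sigma.desc fun m => (adj.homEquiv _ _) (Sigma.ι (fun m => shifts E (j m, n)) m)
    refine ⟨fun m => (j m, n), β', (adj.homEquiv _ _).symm (γ ≫ ψ), ?_⟩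
    apply (adj.homEquiv _ _).injective
    rw [Adjunction.homEquiv_naturality_right, Equiv.apply_symm_apply, Category.assoc]
    have hφ : φ ≫ Sigma.desc (fun m => e.map (Sigma.ι X m)) = 𝟙 _ :=
      Cofan.IsColimit.hom_ext c _ _ fun m => by
        rw [← Category.assoc, Cofan.IsColimit.fac, Sigma.ι_desc]
        exact (Category.comp_id _).symm
    have hψ : ψ ≫ e.map (Limits.Sigma.map β') =
        Limits.Sigma.map β ≫ Sigma.desc (fun m => e.map (Sigma.ι X m)) := by
      refine Sigma.hom_ext _ _ fun m => ?_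
      rw [Sigma.ι_desc_assoc, Sigma.ι_map_assoc, Sigma.ι_desc,
        ← Adjunction.homEquiv_naturality_right, Sigma.ι_map, Adjunction.homEquiv_naturality_right,
        Equiv.apply_symm_apply]
    show _ = γ ≫ ψ ≫ e.map (Limits.Sigma.map β')
    rw [hψ, ← Category.assoc γ, ← hγ, Category.assoc, hφ, Category.comp_id]

omit [HasZeroObject D] [∀ n : ℤ, (shiftFunctor D n).Additive] [Pretriangulated D]
  [HasShift D ℤ] in
theorem exists_factor_of_isCompact [HasCoproducts.{v} D] {ι : Type v} (E : ι → D) (i : ι)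
    (hE : CohDer.IsCompactObject (E i)) (X : ℕ → D) (α : E i ⟶ ∐ X) :
    ∃ (j : ℕ → ι) (β : ∀ n, E (j n) ⟶ X n) (γ : E i ⟶ ∐ (fun n => E (j n))),
      α = γ ≫ Limits.Sigma.map β := by
  classical
  let X' : ULift.{v} ℕ → D := fun m => X m.down
  let u : ∐ X ⟶ ∐ X' := Sigma.desc fun m => Sigma.ι X' ⟨m⟩
  let d : ∐ X' ⟶ ∐ X := Sigma.desc fun m => Sigma.ι X m.down
  have hud : u ≫ d = 𝟙 _ := Sigma.hom_ext _ _ fun m => by
    rw [Category.comp_id, Sigma.ι_desc_assoc, Sigma.ι_desc]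
  obtain ⟨x, hx⟩ := (hE _ X').2 (α ≫ u)
  refine ⟨fun _ => i, fun n => x ⟨n⟩,
    ∑ m ∈ DFinsupp.support x, Sigma.ι (fun _ : ℕ => E i) m.down, ?_⟩
  rw [← Category.comp_id α, ← hud, ← Category.assoc, ← hx]
  conv_lhs => rw [← DirectSum.sum_support_of x]
  rw [map_sum, Preadditive.sum_comp, Preadditive.sum_comp]
  refine Finset.sum_congr rfl fun m _ => ?_
  rw [Compact.hom_of, Category.assoc, Sigma.ι_desc, Sigma.ι_map]

end Groth.Agent.DHA.Brown
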