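/-
Brown representability: the sequential tower and its homotopy colimit.
-/
import Groth.Prelude.Def_DerLim
import Groth.Agent.DHA.Brown.Basic

set_option linter.unusedSectionVars false

universe v u

open CategoryTheory CategoryTheory.Limits Pretriangulated Opposite
open CategoryTheory.Pretriangulated.Opposite

namespace Groth.Agent.DHA.Brown

variable {D : Type u} [Category.{v} D] [Preadditive D] [HasZeroObject D] [HasShift D ℤ]
  [∀ n : ℤ, (shiftFunctor D n).Additive] [Pretriangulated D] [HasCoproducts.{v} D]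
  [HasColimitsOfShape (Discrete ℕ) D]

variable (H : Dᵒᵖ ⥤ AddCommGrpCat.{v}) [H.IsHomological]
  [∀ J : Type v, PreservesLimitsOfShape (Discrete J) H]

instance preservesLimitsOfShape_nat : PreservesLimitsOfShape (Discrete ℕ) H :=
  preservesLimitsOfShape_of_equiv (Discrete.equivalence Equiv.ulift.{v}) H

variable {κ : Type v} (P : κ → D)

/-- an object with an element -/
structure Stage where
  obj : D
  el : H.obj (op obj)

variable {H}

/-- index of the maps to kill -/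
abbrev Kill (S : Stage H) : Type v := Σ k : κ, {φ : P k ⟶ S.obj // ev H φ S.el = 0}

/-- the map killing everything -/
noncomputable def killMap (S : Stage H) :
    (∐ fun q : Kill P S => P q.1) ⟶ S.obj := Sigma.desc fun q => q.2.1

lemma exists_next (S : Stage H) :
    ∃ (S' : Stage H) (f : S.obj ⟶ S'.obj)
      (h : S'.obj ⟶ (∐ fun q : Kill P S => P q.1)⟦(1 : ℤ)⟧),
      Triangle.mk (killMap P S) f h ∈ distTriang D ∧ ev H f S'.el = S.el := by
  obtain ⟨Z, f, h, hT⟩ := distinguished_cocone_triangle (killMap P S)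
  obtain ⟨z, hz⟩ := exists_ev H hT S.el (ev_hom_ext H fun q => by
    rw [← ev_comp, killMap, Sigma.ι_desc, q.2.2, ev_map_zero])
  exact ⟨⟨Z, z⟩, f, h, hT, hz⟩

/-- the next stage -/
noncomputable def next (S : Stage H) : Stage H := (exists_next P S).choose

/-- the map to the next stage -/
noncomputable def nextMap (S : Stage H) : S.obj ⟶ (next P S).obj :=
  (exists_next P S).choose_spec.choose

lemma nextMap_triangle (S : Stage H) :
    ∃ h, Triangle.mk (killMap P S) (nextMap P S) h ∈ distTriang D :=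
  ⟨_, (exists_next P S).choose_spec.choose_spec.choose_spec.1⟩

lemma ev_nextMap (S : Stage H) : ev H (nextMap P S) (next P S).el = S.el :=
  (exists_next P S).choose_spec.choose_spec.choose_spec.2

lemma comp_nextMap (S : Stage H) (k : κ) (φ : P k ⟶ S.obj) (hφ : ev H φ S.el = 0) :
    φ ≫ nextMap P S = 0 := by
  obtain ⟨h, hT⟩ := nextMap_triangle P S
  have h0 := comp_distTriang_mor_zero₁₂ _ hT
  change killMap P S ≫ nextMap P S = 0 at h0
  have := Sigma.ι (fun q : Kill P S => P q.1) ⟨k, φ, hφ⟩ ≫= h0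
  rwa [comp_zero, killMap, Sigma.ι_desc_assoc] at this

variable (S₀ : Stage H)

/-- the tower -/
noncomputable def stage : ℕ → Stage H
  | 0 => S₀
  | n + 1 => next P (stage n)

/-- objects of the tower -/
noncomputable abbrev K (n : ℕ) : D := (stage P S₀ n).obj

/-- elements of the tower -/
noncomputable abbrev x (n : ℕ) : H.obj (op (K P S₀ n)) := (stage P S₀ n).el

/-- transition maps -/
noncomputable def f (n : ℕ) : K P S₀ n ⟶ K P S₀ (n + 1) := nextMap P (stage P S₀ n)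

lemma ev_f (n : ℕ) : ev H (f P S₀ n) (x P S₀ (n + 1)) = x P S₀ n :=
  ev_nextMap P (stage P S₀ n)

lemma comp_f {n : ℕ} {k : κ} (φ : P k ⟶ K P S₀ n) (hφ : ev H φ (x P S₀ n) = 0) :
    φ ≫ f P S₀ n = 0 :=
  comp_nextMap P _ k φ hφ

/-- composite transition maps from the start -/
noncomputable def ι₀ : ∀ n, K P S₀ 0 ⟶ K P S₀ n
  | 0 => 𝟙 _
  | n + 1 => ι₀ n ≫ f P S₀ n

lemma ev_ι₀ : ∀ n, ev H (ι₀ P S₀ n) (x P S₀ n) = x P S₀ 0
  | 0 => ev_id H _
  | n + 1 => by rw [ι₀, ev_comp, ev_f, ev_ι₀ n]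

lemma comp_ι₀_succ {k : κ} (u : P k ⟶ K P S₀ 0) (hu : ev H u (x P S₀ 0) = 0) (n : ℕ) :
    u ≫ ι₀ P S₀ (n + 1) = 0 := by
  rw [ι₀, ← Category.assoc]
  exact comp_f P S₀ _ (by rw [ev_comp, ev_ι₀, hu])

/-- the hypothesis on the seed -/
def Covers : Prop := ∀ (k : κ) (e : H.obj (op (P k))), ∃ s : P k ⟶ S₀.obj, ev H s S₀.el = e

/-- the map from copies of the seed into the tower -/
noncomputable def g : (∐ fun _ : ℕ => K P S₀ 0) ⟶ ∐ K P S₀ :=
  Sigma.desc fun n => ι₀ P S₀ (n + 1) ≫ Sigma.ι (K P S₀) (n + 1)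

/-- shift of the copies -/
noncomputable def t : (∐ fun _ : ℕ => K P S₀ 0) ⟶ ∐ fun _ : ℕ => K P S₀ 0 :=
  Sigma.desc fun n => Sigma.ι (fun _ : ℕ => K P S₀ 0) (n + 1)

lemma g_shiftMap : g P S₀ ≫ DerLim.shiftMap (K P S₀) (f P S₀) = t P S₀ ≫ g P S₀ :=
  Sigma.hom_ext _ _ fun n => by
    simp only [g, t, DerLim.shiftMap, Sigma.ι_desc_assoc, Sigma.ι_desc, Category.assoc]
    simp only [ι₀, Category.assoc]

variable {P} {S₀}

lemma exists_comp_shiftMap (hP : IsPerfect P) (hS : Covers P S₀) (k : κ)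
    (α : P k ⟶ ∐ K P S₀) :
    ∃ a : P k ⟶ ∐ fun _ : ℕ => K P S₀ 0,
      α ≫ DerLim.shiftMap (K P S₀) (f P S₀) = a ≫ g P S₀ := by
  obtain ⟨j, β, γ, hα⟩ := hP.factor _ k α
  choose s hs using fun n => hS (j n) (ev H (β n) (x P S₀ n))
  let s' : ∀ n, P (j n) ⟶ K P S₀ 0 := s
  refine ⟨γ ≫ Limits.Sigma.map s', ?_⟩
  rw [hα, Category.assoc, Category.assoc]
  congr 1
  refine Sigma.hom_ext _ _ fun n => ?_
  simp only [g, DerLim.shiftMap, Sigma.ι_map_assoc, Sigma.ι_desc]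
  rw [← sub_eq_zero, ι₀]
  have h0 : (β n - s' n ≫ ι₀ P S₀ n) ≫ f P S₀ n = 0 := comp_f P S₀ _ (by
    rw [ev_sub, ev_comp, ev_ι₀]
    exact sub_eq_zero.2 (hs n).symm)
  rw [Preadditive.sub_comp] at h0
  simp only [← Category.assoc, ← Preadditive.sub_comp]
  simp only [Category.assoc] at h0 ⊢
  simp [reassoc_of% (sub_eq_zero.1 h0)]

/-- `1 - shift` is injective on maps from the perfect family -/
lemma eq_zero_of_comp_sub (hP : IsPerfect P) (hS : Covers P S₀) (k : κ) (α : P k ⟶ ∐ K P S₀)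
    (hα : α ≫ (𝟙 _ - DerLim.shiftMap (K P S₀) (f P S₀)) = 0) : α = 0 := by
  set sh := DerLim.shiftMap (K P S₀) (f P S₀) with hsh
  rw [Preadditive.comp_sub, Category.comp_id, sub_eq_zero] at hα
  obtain ⟨a, ha⟩ := exists_comp_shiftMap hP hS k α
  rw [← hsh] at ha
  set b := a ≫ (𝟙 _ - t P S₀) with hb
  have hbg : b ≫ g P S₀ = 0 := by
    rw [hb, Category.assoc, Preadditive.sub_comp, Category.id_comp, Preadditive.comp_sub,
      ← g_shiftMap, ← hsh, ← Category.assoc, ← ha, ← hα, ← hα, sub_self]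
  -- factor `g`
  let sh' : (∐ fun n => K P S₀ (n + 1)) ⟶ ∐ K P S₀ :=
    Sigma.desc fun n => Sigma.ι (K P S₀) (n + 1)
  let ret : ∐ K P S₀ ⟶ ∐ fun n => K P S₀ (n + 1) :=
    Sigma.desc fun n => match n with
      | 0 => 0
      | n + 1 => Sigma.ι (fun n => K P S₀ (n + 1)) n
  have hret : g P S₀ ≫ ret = Limits.Sigma.map (fun n => ι₀ P S₀ (n + 1)) :=
    Sigma.hom_ext _ _ fun n => by
      rw [g, Sigma.ι_desc_assoc, Category.assoc, Sigma.ι_map, Sigma.ι_desc]
  have hbm : b ≫ Limits.Sigma.map (fun n => ι₀ P S₀ (n + 1)) = 0 := by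
    rw [← hret, ← Category.assoc, hbg, zero_comp]
  choose Z z w hT using fun n => distinguished_cocone_triangle₁ (ι₀ P S₀ (n + 1))
  obtain ⟨c, hc⟩ : ∃ c : P k ⟶ ∐ Z, b = c ≫ Limits.Sigma.map z :=
    Triangle.coyoneda_exact₂ _ (coproductTriangle_distinguished
      (fun n => Triangle.mk (z n) (ι₀ P S₀ (n + 1)) (w n)) hT) b hbm
  obtain ⟨j, β, γ, hγ⟩ := hP.factor Z k c
  let r : (∐ fun _ : ℕ => K P S₀ 0) ⟶ ∐ fun _ : ℕ => K P S₀ 0 :=
    Sigma.desc fun n => -∑ m ∈ Finset.range n, Sigma.ι (fun _ : ℕ => K P S₀ 0) m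
  have hr : (𝟙 _ - t P S₀) ≫ r = 𝟙 _ := Sigma.hom_ext _ _ fun n => by
    simp [r, t, Preadditive.comp_sub, Finset.sum_range_succ]
  have hag : a ≫ g P S₀ = 0 := by
    have hag' : a ≫ g P S₀ = b ≫ r ≫ g P S₀ := by
      rw [hb, Category.assoc, ← Category.assoc (𝟙 _ - t P S₀), hr, Category.id_comp]
    rw [hag', hc, hγ, Category.assoc, Category.assoc]
    have h0 : Limits.Sigma.map β ≫ Limits.Sigma.map z ≫ r ≫ g P S₀ = 0 := by
      refine Sigma.hom_ext _ _ fun m => ?_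
      rw [comp_zero, Sigma.ι_map_assoc, Sigma.ι_map_assoc, Sigma.ι_desc_assoc,
        ← Category.assoc]
      have hu : ev H (β m ≫ z m) (x P S₀ 0) = 0 := by
        rw [ev_comp, ← ev_ι₀ P S₀ (m + 1), ← ev_comp H (z m)]
        have h0 := comp_distTriang_mor_zero₁₂ _ (hT m)
        change z m ≫ ι₀ P S₀ (m + 1) = 0 at h0
        rw [h0, ev_zero, ev_map_zero]
      simp only [Preadditive.neg_comp, Preadditive.comp_neg, Preadditive.sum_comp,
        Preadditive.comp_sum, neg_eq_zero]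
      refine Finset.sum_eq_zero fun i _ => ?_
      rw [g, Sigma.ι_desc, ← Category.assoc, comp_ι₀_succ P S₀ _ hu, zero_comp]
    rw [h0, comp_zero]
  rw [hα, ha, hag]

/-- the main property of the tower -/
theorem exists_hocolim (hP : IsPerfect P) (hS : Covers P S₀) :
    ∃ (L : D) (xL : H.obj (op L)) (i : ∀ n, K P S₀ n ⟶ L),
      DerLim.IsHocolim (K P S₀) (f P S₀) L i ∧ (∀ n, ev H (i n) xL = x P S₀ n) ∧
      ∀ k, Function.Bijective (fun φ : P k ⟶ L => ev H φ xL) := by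
  set sh := DerLim.shiftMap (K P S₀) (f P S₀) with hsh
  obtain ⟨L, q, c, hT⟩ := distinguished_cocone_triangle (𝟙 (∐ K P S₀) - sh)
  let i : ∀ n, K P S₀ n ⟶ L := fun n => Sigma.ι (K P S₀) n ≫ q
  have hq : Sigma.desc i = q := Sigma.hom_ext _ _ fun n => by simp [i]
  obtain ⟨y, hy⟩ := exists_ev_desc H (fun n => x P S₀ n)
  obtain ⟨xL, hxL⟩ := exists_ev H hT y (by
    refine ev_hom_ext H (X := K P S₀) fun n => ?_
    rw [ev_map_zero, ev_sub, ev_id, ev_map_sub, ← ev_comp, hsh, DerLim.shiftMap, Sigma.ι_desc,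
      ev_comp, hy, hy, ev_f, sub_self])
  have hi : ∀ n, ev H (i n) xL = x P S₀ n := fun n => by rw [ev_comp, hxL, hy]
  have hcompat : sh ≫ q = q := by
    have h0 : (𝟙 (∐ K P S₀) - sh) ≫ q = 0 := comp_distTriang_mor_zero₁₂ _ hT
    rw [Preadditive.sub_comp, Category.id_comp, sub_eq_zero] at h0
    exact h0.symm
  have hcompat' : ∀ n, f P S₀ n ≫ i (n + 1) = i n := fun n => by
    have := Sigma.ι (K P S₀) n ≫= hcompat
    rw [hsh, DerLim.shiftMap, Sigma.ι_desc_assoc, Category.assoc] at this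
    exact this
  have hι₀ : ∀ n, ι₀ P S₀ n ≫ i n = i 0 := by
    intro n
    induction n with
    | zero => rw [ι₀, Category.id_comp]
    | succ n ih => rw [ι₀, Category.assoc, hcompat', ih]
  refine ⟨L, xL, i, ⟨c, by rw [hq]; exact hT⟩, hi, fun k => ⟨?_, ?_⟩⟩
  · intro φ₁ φ₂ h12
    rw [← sub_eq_zero]
    set φ := φ₁ - φ₂ with hφ
    have hev : ev H φ xL = 0 := by
      rw [hφ, ev_sub, sub_eq_zero]
      exact h12
    have hφc : φ ≫ c = 0 := by
      obtain ⟨k', ⟨e⟩⟩ := hP.shift k (-1)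
      let F := shiftFunctor D (-1 : ℤ)
      let N := shiftFunctorCompIsoId D (1 : ℤ) (-1) (add_neg_cancel _)
      have hzero : (φ ≫ c) ≫ (shiftFunctor D (1 : ℤ)).map (𝟙 _ - sh) = 0 := by
        have h31 : c ≫ (shiftFunctor D (1 : ℤ)).map (𝟙 (∐ K P S₀) - sh) = 0 :=
          comp_distTriang_mor_zero₃₁ _ hT
        rw [Category.assoc, h31, comp_zero]
      have hnat := N.hom.naturality (𝟙 (∐ K P S₀) - sh)
      simp only [Functor.comp_map, Functor.id_map] at hnat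
      have hα := eq_zero_of_comp_sub hP hS k'
        (e.hom ≫ F.map (φ ≫ c) ≫ N.hom.app (∐ K P S₀)) (by
          rw [← hsh, Category.assoc, Category.assoc, ← hnat, ← Category.assoc (F.map _),
            ← F.map_comp, hzero, F.map_zero, zero_comp, comp_zero])
      rw [Preadditive.IsIso.comp_left_eq_zero, Preadditive.IsIso.comp_right_eq_zero] at hα
      exact F.map_injective (hα.trans (F.map_zero _ _).symm)
    obtain ⟨α, hα⟩ : ∃ α : P k ⟶ ∐ K P S₀, φ = α ≫ q := Triangle.coyoneda_exact₃ _ hT φ hφc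
    obtain ⟨a, ha⟩ := exists_comp_shiftMap hP hS k α
    let fold : (∐ fun _ : ℕ => K P S₀ 0) ⟶ K P S₀ 0 := Sigma.desc fun _ => 𝟙 _
    have hgq : g P S₀ ≫ q = fold ≫ i 0 := Sigma.hom_ext _ _ fun n => by
      rw [g, Sigma.ι_desc_assoc, Sigma.ι_desc_assoc, Category.assoc, Category.id_comp]
      exact hι₀ (n + 1)
    have hφa : φ = (a ≫ fold) ≫ i 0 := by
      rw [hα, Category.assoc, ← hgq, ← Category.assoc, ← ha, Category.assoc, ← hsh, hcompat]
    rw [hφa, ← hcompat' 0, ← Category.assoc]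
    have hu : ev H (a ≫ fold) (x P S₀ 0) = 0 := by
      rw [← hi 0, ← ev_comp, ← hφa, hev]
    rw [comp_f P S₀ _ hu, zero_comp]
  · intro e
    obtain ⟨s, hs⟩ : ∃ s : P k ⟶ K P S₀ 0, ev H s (x P S₀ 0) = e := hS k e
    refine ⟨s ≫ i 0, ?_⟩
    show ev H (s ≫ i 0) xL = e
    rw [ev_comp, hi 0]
    exact hs

end Groth.Agent.DHA.Brown
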