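/-
Brown representability for categories with a perfect family of generators; adjoint functors.
-/
import Groth.Agent.DHA.Brown.Tower
import Mathlib.CategoryTheory.Triangulated.Yoneda
import Mathlib.CategoryTheory.Triangulated.Opposite.Functor
import Mathlib.CategoryTheory.Preadditive.Yoneda.Limits
import Mathlib.CategoryTheory.Adjunction.PartialAdjoint
import Mathlib.CategoryTheory.Limits.Preserves.Opposites

set_option linter.unusedSectionVars false

universe v u u'

open CategoryTheory CategoryTheory.Limits Pretriangulated Opposite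
open CategoryTheory.Pretriangulated.Opposite

namespace Groth.Agent.DHA.Brown

variable {D : Type u} [Category.{v} D] [Preadditive D] [HasZeroObject D] [HasShift D ℤ]
  [∀ n : ℤ, (shiftFunctor D n).Additive] [Pretriangulated D] [HasCoproducts.{v} D]
  [HasColimitsOfShape (Discrete ℕ) D]

variable {κ : Type v} {P : κ → D}

/-- a map inducing bijections on the perfect family is an isomorphism -/
theorem isIso_of_bijective (hP : IsPerfect P) {A B : D} (g : A ⟶ B)
    (hg : ∀ k, Function.Bijective (fun φ : P k ⟶ A => φ ≫ g)) : IsIso g := by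
  obtain ⟨Z, p, δ, hT⟩ := distinguished_cocone_triangle g
  refine (Triangle.isZero₃_iff_isIso₁ _ hT).1 (hP.detect Z fun k ψ => ?_)
  change P k ⟶ Z at ψ
  have hδ : ψ ≫ δ = 0 := by
    obtain ⟨k', ⟨e⟩⟩ := hP.shift k (-1)
    let F := shiftFunctor D (-1 : ℤ)
    let N := shiftFunctorCompIsoId D (1 : ℤ) (-1) (add_neg_cancel _)
    have h31 : δ ≫ (shiftFunctor D (1 : ℤ)).map g = 0 := comp_distTriang_mor_zero₃₁ _ hT
    have hnat := N.hom.naturality g
    simp only [Functor.comp_map, Functor.id_map] at hnat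
    have : e.hom ≫ F.map (ψ ≫ δ) ≫ N.hom.app A = 0 := (hg k').1 (by
      show (e.hom ≫ F.map (ψ ≫ δ) ≫ N.hom.app A) ≫ g = 0 ≫ g
      rw [zero_comp, Category.assoc, Category.assoc, ← hnat, ← Category.assoc (F.map _),
        ← F.map_comp, Category.assoc ψ, h31, comp_zero, F.map_zero, zero_comp, comp_zero])
    rw [Preadditive.IsIso.comp_left_eq_zero, Preadditive.IsIso.comp_right_eq_zero] at this
    exact F.map_injective (this.trans (F.map_zero _ _).symm)
  obtain ⟨u, hu⟩ : ∃ u : P k ⟶ B, ψ = u ≫ p := Triangle.coyoneda_exact₃ _ hT ψ hδ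
  obtain ⟨v, rfl⟩ := (hg k).2 u
  have h12 : g ≫ p = 0 := comp_distTriang_mor_zero₁₂ _ hT
  rw [hu, Category.assoc, h12, comp_zero]

variable {H : Dᵒᵖ ⥤ AddCommGrpCat.{v}} [H.IsHomological]
  [∀ J : Type v, PreservesLimitsOfShape (Discrete J) H]

/-- a pair is universal on the family -/
def IsUniv (P : κ → D) (X : D) (x : H.obj (op X)) : Prop :=
  ∀ k, Function.Bijective (fun φ : P k ⟶ X => ev H φ x)

theorem exists_univ (hP : IsPerfect P) (Y : D) (y : H.obj (op Y)) :
    ∃ (X : D) (x : H.obj (op X)) (j : Y ⟶ X), ev H j x = y ∧ IsUniv P X x := by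
  let Q := fun q : (Σ k : κ, H.obj (op (P k))) => P q.1
  obtain ⟨u, hu⟩ := exists_ev_desc H (X := Q) (fun q => q.2)
  let S₀ : Stage H := ⟨Y ⊞ ∐ Q, ev H biprod.fst y + ev H biprod.snd u⟩
  have hS : Covers P S₀ := fun k e => ⟨Sigma.ι Q ⟨k, e⟩ ≫ biprod.inr, by
    show ev H (Sigma.ι Q ⟨k, e⟩ ≫ biprod.inr) (ev H biprod.fst y + ev H biprod.snd u) = e
    rw [ev_map_add, ← ev_comp, ← ev_comp, Category.assoc, Category.assoc, biprod.inr_fst,
      biprod.inr_snd, comp_zero, Category.comp_id, ev_zero, zero_add, hu]⟩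
  obtain ⟨L, xL, i, -, hi, hbij⟩ := exists_hocolim hP hS
  let inl' : Y ⟶ K P S₀ 0 := biprod.inl
  refine ⟨L, xL, inl' ≫ i 0, ?_, hbij⟩
  rw [ev_comp, hi 0]
  show ev H biprod.inl (ev H biprod.fst y + ev H biprod.snd u) = y
  rw [ev_map_add, ← ev_comp, ← ev_comp, biprod.inl_fst, biprod.inl_snd, ev_id, ev_zero, add_zero]

theorem isIso_of_univ (hP : IsPerfect P) {A B : D} (g : A ⟶ B) {a : H.obj (op A)}
    {b : H.obj (op B)} (hab : ev H g b = a) (ha : IsUniv P A a) (hb : IsUniv P B b) :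
    IsIso g := by
  refine isIso_of_bijective hP g fun k => ?_
  refine ((hb k).of_comp_iff' (fun φ : P k ⟶ A => φ ≫ g)).1 ?_
  convert ha k using 1
  funext φ
  simp [ev_comp, hab]

theorem univ_bijective (hP : IsPerfect P) {X : D} {x : H.obj (op X)} (hx : IsUniv P X x) (Y : D) :
    Function.Bijective (fun φ : Y ⟶ X => ev H φ x) := by
  constructor
  · intro φ₁ φ₂ h
    rw [← sub_eq_zero]
    obtain ⟨Z, p, δ, hT⟩ := distinguished_cocone_triangle (φ₁ - φ₂)
    obtain ⟨z, hz⟩ := exists_ev H hT x (by rw [ev_sub, sub_eq_zero]; exact h)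
    obtain ⟨L, xL, j, hj, hL⟩ := exists_univ hP Z z
    have := isIso_of_univ hP (p ≫ j) (by rw [ev_comp, hj, hz]) hx hL
    have h12 : (φ₁ - φ₂) ≫ p = 0 := comp_distTriang_mor_zero₁₂ _ hT
    rw [← cancel_mono (p ≫ j), ← Category.assoc, h12, zero_comp, zero_comp]
  · intro y
    obtain ⟨L, xL, j, hj, hL⟩ :=
      exists_univ hP (X ⊞ Y) (ev H biprod.fst x + ev H biprod.snd y)
    have hinl : ev H (biprod.inl ≫ j) xL = x := by
      rw [ev_comp, hj, ev_map_add, ← ev_comp, ← ev_comp, biprod.inl_fst, biprod.inl_snd, ev_id,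
        ev_zero, add_zero]
    have hinr : ev H (biprod.inr ≫ j) xL = y := by
      rw [ev_comp, hj, ev_map_add, ← ev_comp, ← ev_comp, biprod.inr_fst, biprod.inr_snd, ev_id,
        ev_zero, zero_add]
    have := isIso_of_univ hP (biprod.inl ≫ j) hinl hx hL
    refine ⟨(biprod.inr ≫ j) ≫ inv (biprod.inl ≫ j), ?_⟩
    show ev H ((biprod.inr ≫ j) ≫ inv (biprod.inl ≫ j)) x = y
    rw [ev_comp, ← hinl, ← ev_comp H (inv _), IsIso.inv_hom_id, ev_id, hinr]

variable (H) in
/-- Brown representability -/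
theorem isRepresentable (hP : IsPerfect P) :
    (H ⋙ forget AddCommGrpCat.{v}).IsRepresentable := by
  obtain ⟨Z, hZ⟩ : ∃ Z : D, IsZero Z := ⟨_, isZero_zero D⟩
  obtain ⟨X, x, -, -, hx⟩ := exists_univ (H := H) hP Z 0
  exact Functor.RepresentableBy.isRepresentable
    { homEquiv := fun {Y} => Equiv.ofBijective _ (univ_bijective hP hx Y)
      homEquiv_comp := fun {Y Y'} h g => ev_comp H h g x }

section Adjoint

variable {D' : Type u'} [Category.{v} D'] [Preadditive D'] [HasZeroObject D'] [HasShift D' ℤ]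
  [∀ n : ℤ, (shiftFunctor D' n).Additive] [Pretriangulated D']

theorem isLeftAdjoint (hP : IsPerfect P) (F : D ⥤ D') [F.CommShift ℤ] [F.IsTriangulated]
    [∀ J : Type v, PreservesColimitsOfShape (Discrete J) F] : F.IsLeftAdjoint := by
  refine F.isLeftAdjoint_of_rightAdjointObjIsDefined_eq_top (funext fun Y => eq_true ?_)
  rw [Functor.rightAdjointObjIsDefined_iff]
  have (J : Type v) : PreservesLimitsOfShape (Discrete J) F.op :=
    have := preservesColimitsOfShape_of_equiv (Discrete.opposite J).symm F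
    preservesLimitsOfShape_op (Discrete J) F
  have (J : Type v) : PreservesLimitsOfShape (Discrete J) (F.op ⋙ preadditiveYoneda.obj Y) :=
    inferInstance
  exact isRepresentable (F.op ⋙ preadditiveYoneda.obj Y) hP

end Adjoint

end Groth.Agent.DHA.Brown
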